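import Groth.Agent.BranchCount.Hensel
import Groth.Agent.H23.StalkPrimes
import Groth.Agent.FComplLib.IdealComap
import Mathlib.AlgebraicGeometry.Morphisms.QuasiFinite
import Mathlib.AlgebraicGeometry.Morphisms.FiniteType
import Groth.Prelude.Def_Brnch

/-!
# Branches of closed subschemes along quasi-finite morphisms to a normal scheme
-/

set_option linter.style.haveILetI false
set_option backward.isDefEq.respectTransparency false
set_option backward.isDefEq.respectTransparency.types false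
set_option maxHeartbeats 1000000

universe u

open CategoryTheory CategoryTheory.Limits AlgebraicGeometry IsLocalRing

noncomputable section

namespace Groth.Agent.BranchCount

/-- The points of a closed subscheme among the generisations of one of its points. -/
theorem ker_stalkMap_le_primeOf_iff {D Z : Scheme.{u}} (ι : D ⟶ Z) [IsClosedImmersion ι] (d : D) {y : Z}
    (h : y ⤳ ι d) : RingHom.ker (ι.stalkMap d).hom ≤ (CDiv6.primeOf h).asIdeal ↔ y ∈ Set.range ι := by
  constructor
  · intro hle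
    obtain ⟨_, ⟨U, hU, rfl⟩, hxU, -⟩ := Z.isBasis_affineOpens.exists_subset_of_mem_open
      (Set.mem_univ (ι d)) isOpen_univ
    have hyU : y ∈ U := h.mem_open U.2 hxU
    by_contra hy
    have hsupp : y ∉ (ι.ker.support : Set Z) := by
      rw [Scheme.Hom.support_ker, ι.isClosedEmbedding.isClosed_range.closure_eq]
      exact hy
    rw [SetLike.mem_coe, Scheme.IdealSheafData.mem_support_iff_of_mem (U := ⟨U, hU⟩) hyU,
      Scheme.mem_zeroLocus_iff] at hsupp
    push Not at hsupp
    obtain ⟨a, ha, hya⟩ := hsupp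
    rw [Scheme.mem_basicOpen _ _ _ hyU] at hya
    rw [SetLike.mem_coe, FComplLib.ideal_ker, RingHom.mem_ker] at ha
    have hker : Z.presheaf.germ U (ι d) hxU a ∈ RingHom.ker (ι.stalkMap d).hom := by
      rw [RingHom.mem_ker]
      erw [Scheme.Hom.germ_stalkMap_apply]
      erw [ha]
      exact map_zero _
    have h2 := (CDiv6.mem_primeOf h _).1 (hle hker)
    apply h2
    have e : Z.presheaf.stalkSpecializes h (Z.presheaf.germ U (ι d) hxU a) = Z.presheaf.germ U y hyU a :=
      congrArg (fun φ => φ.hom a) (Z.presheaf.germ_stalkSpecializes hxU h)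
    rw [e]
    exact hya
  · rintro ⟨e, rfl⟩ a ha
    have he : e ⤳ d := ι.isEmbedding.isInducing.specializes_iff.1 h
    rw [CDiv6.mem_primeOf]
    intro hu
    have h2 := congrArg (fun φ => φ.hom a) (Scheme.Hom.stalkSpecializes_stalkMap ι _ _ he)
    simp only [CommRingCat.hom_comp, RingHom.comp_apply] at h2
    rw [RingHom.mem_ker.1 ha, map_zero] at h2
    have h3 := hu.map (ι.stalkMap e).hom
    rw [h2] at h3
    exact not_isUnit_zero h3

/-- Branches of closed subschemes do not increase along a quasi-finite injective map to a normal point. -/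
theorem numBranchesAt_closedSub_le {W Z D E : Scheme.{u}} [IsLocallyNoetherian Z] (ψ : W ⟶ Z)
    [LocallyOfFiniteType ψ] (w : W) (hqf : ψ.QuasiFiniteAt w)
    (hdom : IsDomain (Z.presheaf.stalk (ψ w))) (hnorm : IsIntegrallyClosed (Z.presheaf.stalk (ψ w)))
    (hinj : Function.Injective (ψ.stalkMap w).hom)
    (ιD : D ⟶ Z) [IsClosedImmersion ιD] (ιE : E ⟶ W) [IsClosedImmersion ιE]
    (d : D) (hd : ιD d = ψ w) (e : E) (he : ιE e = w)
    (himg : ∀ γ ∈ Set.range ιE, ψ γ ∈ Set.range ιD)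
    (hlift : ∀ γ : W, γ ⤳ w → ψ γ ∈ Set.range ιD → (∀ η ∈ Set.range ιD, η ⤳ ψ γ → η = ψ γ) → γ ∈ Set.range ιE) :
    Brnch.numBranchesAt D d ≤ Brnch.numBranchesAt E e := by
  obtain ⟨_, ⟨U, hU, rfl⟩, hyU, -⟩ := Z.isBasis_affineOpens.exists_subset_of_mem_open
    (Set.mem_univ (ψ w)) isOpen_univ
  obtain ⟨_, ⟨V, hV, rfl⟩, hxV, hVU'⟩ := W.isBasis_affineOpens.exists_subset_of_mem_open
    (show w ∈ (ψ ⁻¹ᵁ U : Set W) from hyU) (ψ ⁻¹ᵁ U).2
  have hVU : V ≤ ψ ⁻¹ᵁ U := hVU'
  letI : Algebra Γ(Z, U) Γ(W, V) := (ψ.appLE U V hVU).hom.toAlgebra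
  haveI : Algebra.FiniteType Γ(Z, U) Γ(W, V) := ψ.finiteType_appLE hU hV hVU
  let p := (hU.primeIdealOf ⟨ψ w, hVU hxV⟩).asIdeal
  let q := (hV.primeIdealOf ⟨w, hxV⟩).asIdeal
  haveI : q.LiesOver p :=
    ⟨congr($(IsAffineOpen.comap_primeIdealOf_appLE U hU V hV hVU hxV).1).symm⟩
  haveI : Algebra.QuasiFiniteAt Γ(Z, U) q := hqf.quasiFiniteAt hV hU hVU hxV
  letI : Algebra Γ(Z, U) (Z.presheaf.stalk (ψ w)) := Z.presheaf.algebra_section_stalk (⟨ψ w, hVU hxV⟩ : U)
  letI : Algebra Γ(W, V) (W.presheaf.stalk w) := W.presheaf.algebra_section_stalk (⟨w, hxV⟩ : V)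
  haveI : IsLocalization.AtPrime (Z.presheaf.stalk (ψ w)) p := hU.isLocalization_stalk ⟨ψ w, hVU hxV⟩
  haveI : IsLocalization.AtPrime (W.presheaf.stalk w) q := hV.isLocalization_stalk ⟨w, hxV⟩
  let eA : Localization.AtPrime p ≃+* Z.presheaf.stalk (ψ w) :=
    (IsLocalization.algEquiv p.primeCompl (Localization.AtPrime p) (Z.presheaf.stalk (ψ w))).toRingEquiv
  let eB : Localization.AtPrime q ≃+* W.presheaf.stalk w :=
    (IsLocalization.algEquiv q.primeCompl (Localization.AtPrime q) (W.presheaf.stalk w)).toRingEquiv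
  have heA : ∀ a, eA (algebraMap Γ(Z, U) _ a) = Z.presheaf.germ U (ψ w) (hVU hxV) a := fun a =>
    (IsLocalization.algEquiv p.primeCompl (Localization.AtPrime p) (Z.presheaf.stalk (ψ w))).commutes a
  have heB : ∀ b, eB (algebraMap Γ(W, V) _ b) = W.presheaf.germ V w hxV b := fun b =>
    (IsLocalization.algEquiv q.primeCompl (Localization.AtPrime q) (W.presheaf.stalk w)).commutes b
  let φl := Localization.localRingHom p q (algebraMap Γ(Z, U) Γ(W, V)) (Ideal.LiesOver.over (p := p) (P := q))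
  have hsq : (eB : Localization.AtPrime q →+* W.presheaf.stalk w).comp φl =
      (ψ.stalkMap w).hom.comp (eA : Localization.AtPrime p →+* Z.presheaf.stalk (ψ w)) := by
    refine IsLocalization.ringHom_ext p.primeCompl (RingHom.ext fun a => ?_)
    show eB (φl (algebraMap Γ(Z, U) _ a)) = (ψ.stalkMap w).hom (eA (algebraMap Γ(Z, U) _ a))
    rw [Localization.localRingHom_to_map, heA, heB, RingHom.algebraMap_toAlgebra]
    erw [Scheme.Hom.germ_stalkMap_apply]
    rw [Scheme.Hom.app_eq_appLE]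
    erw [← W.presheaf.germ_res_apply (homOfLE hVU) w hxV]
    exact (congrArg (fun (m : Γ(Z, U) ⟶ Γ(W, V)) => W.presheaf.germ V w hxV (m a))
      (Scheme.Hom.appLE_map ψ (le_refl _) (homOfLE hVU).op)).symm
  haveI : IsNoetherianRing (Localization.AtPrime p) := isNoetherianRing_of_ringEquiv _ eA.symm
  haveI : IsDomain (Localization.AtPrime p) := eA.toMulEquiv.isDomain
  haveI : IsIntegrallyClosed (Localization.AtPrime p) := IsIntegrallyClosed.of_equiv eA.symm
  have hloc : Function.Injective φl := fun a b h => by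
    have h' := congrArg eB h
    rw [← RingEquiv.coe_toRingHom, ← RingHom.comp_apply, ← RingHom.comp_apply, hsq] at h'
    exact eA.injective (hinj h')
  have keyD : ∀ (y : Z) (_ : ιD d = y), ∃ π : Z.presheaf.stalk y →+* D.presheaf.stalk d, Function.Surjective π ∧
      ∀ (γ : Z) (h : γ ⤳ y), RingHom.ker π ≤ (CDiv6.primeOf h).asIdeal ↔ γ ∈ Set.range ιD := by
    rintro _ rfl
    exact ⟨(ιD.stalkMap d).hom, ιD.stalkMap_surjective d, fun γ h => ker_stalkMap_le_primeOf_iff ιD d h⟩
  have keyE : ∀ (y : W) (_ : ιE e = y), ∃ π : W.presheaf.stalk y →+* E.presheaf.stalk e, Function.Surjective π ∧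
      ∀ (γ : W) (h : γ ⤳ y), RingHom.ker π ≤ (CDiv6.primeOf h).asIdeal ↔ γ ∈ Set.range ιE := by
    rintro _ rfl
    exact ⟨(ιE.stalkMap e).hom, ιE.stalkMap_surjective e, fun γ h => ker_stalkMap_le_primeOf_iff ιE e h⟩
  obtain ⟨πd, hπd, hkd⟩ := keyD (ψ w) hd
  obtain ⟨πe, hπe, hke⟩ := keyE w he
  -- a prime of the localization as a point
  have hpt : ∀ Q : Ideal (Localization.AtPrime q), Q.IsPrime → ∃ (γ : W) (h : γ ⤳ w),
      Q = (CDiv6.primeOf h).asIdeal.comap (eB : Localization.AtPrime q →+* W.presheaf.stalk w) ∧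
      Q.comap φl = (CDiv6.primeOf (h.map ψ.continuous)).asIdeal.comap
        (eA : Localization.AtPrime p →+* Z.presheaf.stalk (ψ w)) := by
    intro Q hQ
    haveI : (Q.comap (eB.symm : W.presheaf.stalk w →+* Localization.AtPrime q)).IsPrime := Ideal.IsPrime.comap _
    obtain ⟨γ, h, hγ⟩ := H23.StalkPrimes.exists_point (Q.comap (eB.symm : W.presheaf.stalk w →+* Localization.AtPrime q))
    have h1 : Q = (CDiv6.primeOf h).asIdeal.comap (eB : Localization.AtPrime q →+* W.presheaf.stalk w) := by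
      rw [hγ, Ideal.comap_comap, RingEquiv.symm_comp, Ideal.comap_id]
    refine ⟨γ, h, h1, ?_⟩
    rw [← H23.StalkPrimes.comap_primeOf ψ h, h1, Ideal.comap_comap, Ideal.comap_comap, hsq]
  refine numBranches_quot_le Γ(Z, U) Γ(W, V) p q hloc (πd.comp (eA : _ →+* _)) (hπd.comp eA.surjective)
    (πe.comp (eB : _ →+* _)) (hπe.comp eB.surjective) ?_ ?_
  · intro Q hQ hle
    obtain ⟨γ, h, h1, h2⟩ := hpt Q hQ
    rw [← RingHom.comap_ker, h1] at hle
    replace hle := (hke γ h).1 ((Ideal.comap_le_comap_iff_of_surjective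
      (eB : Localization.AtPrime q →+* W.presheaf.stalk w) eB.surjective _ _).1 hle)
    rw [← RingHom.comap_ker, h2]
    exact Ideal.comap_mono ((hkd _ _).2 (himg γ hle))
  · intro Q hQ hmin
    obtain ⟨γ, h, h1, h2⟩ := hpt Q hQ
    rw [← RingHom.comap_ker, h2] at hmin
    rw [← RingHom.comap_ker, h1]
    refine Ideal.comap_mono ((hke γ h).2 (hlift γ h ?_ fun η hη hηγ => ?_))
    · exact (hkd _ (h.map ψ.continuous)).1
        ((Ideal.comap_le_comap_iff_of_surjective (eA : Localization.AtPrime p →+* Z.presheaf.stalk (ψ w)) eA.surjective _ _).1 hmin.1.2)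
    · have hηw : η ⤳ ψ w := hηγ.trans (h.map ψ.continuous)
      have hle2 := (H23.StalkPrimes.primeOf_le_iff (h.map ψ.continuous) hηw).2 hηγ
      have h3 := hmin.2 ⟨Ideal.IsPrime.comap _, Ideal.comap_mono ((hkd η hηw).2 hη)⟩ (Ideal.comap_mono hle2)
      rw [Ideal.comap_le_comap_iff_of_surjective (eA : Localization.AtPrime p →+* Z.presheaf.stalk (ψ w)) eA.surjective] at h3
      exact H23.StalkPrimes.primeOf_inj hηw (h.map ψ.continuous) (le_antisymm hle2 h3)

end Groth.Agent.BranchCount
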