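import Groth.Agent.BranchCount.Strict
import Groth.Agent.FlatDvr.FibreStalk
import Mathlib.AlgebraicGeometry.Morphisms.QuasiFinite
import Mathlib.AlgebraicGeometry.Morphisms.FiniteType

/-!
# Geometric branches of fibres along quasi-finite morphisms to a normal scheme
-/

set_option linter.style.haveILetI false
set_option backward.isDefEq.respectTransparency false
set_option backward.isDefEq.respectTransparency.types false
set_option maxHeartbeats 1000000

universe u

open CategoryTheory CategoryTheory.Limits AlgebraicGeometry IsLocalRing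

noncomputable section

namespace Groth.Agent.BranchCount

theorem numGeomBranchesAt_fibre_le {X Y S : Scheme.{u}} [IsLocallyNoetherian Y] (g : Y ⟶ S) (φ : X ⟶ Y)
    [LocallyOfFiniteType φ] (x : X) (hqf : φ.QuasiFiniteAt x)
    (hdom : IsDomain (Y.presheaf.stalk (φ x))) (hnorm : IsIntegrallyClosed (Y.presheaf.stalk (φ x)))
    (hinj : Function.Injective (φ.stalkMap x).hom) :
    Brnch.numGeomBranchesAt (g.fiber (g (φ x))) (g.asFiber (φ x)) ≤
      Brnch.numGeomBranchesAt ((φ ≫ g).fiber ((φ ≫ g) x)) ((φ ≫ g).asFiber x) := by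
  obtain ⟨_, ⟨U, hU, rfl⟩, hyU, -⟩ := Y.isBasis_affineOpens.exists_subset_of_mem_open
    (Set.mem_univ (φ x)) isOpen_univ
  obtain ⟨_, ⟨V, hV, rfl⟩, hxV, hVU'⟩ := X.isBasis_affineOpens.exists_subset_of_mem_open
    (show x ∈ (φ ⁻¹ᵁ U : Set X) from hyU) (φ ⁻¹ᵁ U).2
  have hVU : V ≤ φ ⁻¹ᵁ U := hVU'
  letI : Algebra Γ(Y, U) Γ(X, V) := (φ.appLE U V hVU).hom.toAlgebra
  haveI : Algebra.FiniteType Γ(Y, U) Γ(X, V) := φ.finiteType_appLE hU hV hVU
  let p := (hU.primeIdealOf ⟨φ x, hVU hxV⟩).asIdeal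
  let q := (hV.primeIdealOf ⟨x, hxV⟩).asIdeal
  haveI : q.LiesOver p :=
    ⟨congr($(IsAffineOpen.comap_primeIdealOf_appLE U hU V hV hVU hxV).1).symm⟩
  haveI : Algebra.QuasiFiniteAt Γ(Y, U) q := hqf.quasiFiniteAt hV hU hVU hxV
  letI : Algebra Γ(Y, U) (Y.presheaf.stalk (φ x)) := Y.presheaf.algebra_section_stalk (⟨φ x, hVU hxV⟩ : U)
  letI : Algebra Γ(X, V) (X.presheaf.stalk x) := X.presheaf.algebra_section_stalk (⟨x, hxV⟩ : V)
  haveI : IsLocalization.AtPrime (Y.presheaf.stalk (φ x)) p := hU.isLocalization_stalk ⟨φ x, hVU hxV⟩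
  haveI : IsLocalization.AtPrime (X.presheaf.stalk x) q := hV.isLocalization_stalk ⟨x, hxV⟩
  let eA : Localization.AtPrime p ≃+* Y.presheaf.stalk (φ x) :=
    (IsLocalization.algEquiv p.primeCompl (Localization.AtPrime p) (Y.presheaf.stalk (φ x))).toRingEquiv
  let eB : Localization.AtPrime q ≃+* X.presheaf.stalk x :=
    (IsLocalization.algEquiv q.primeCompl (Localization.AtPrime q) (X.presheaf.stalk x)).toRingEquiv
  have heA : ∀ a, eA (algebraMap Γ(Y, U) _ a) = Y.presheaf.germ U (φ x) (hVU hxV) a := fun a =>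
    (IsLocalization.algEquiv p.primeCompl (Localization.AtPrime p) (Y.presheaf.stalk (φ x))).commutes a
  have heB : ∀ b, eB (algebraMap Γ(X, V) _ b) = X.presheaf.germ V x hxV b := fun b =>
    (IsLocalization.algEquiv q.primeCompl (Localization.AtPrime q) (X.presheaf.stalk x)).commutes b
  let φl := Localization.localRingHom p q (algebraMap Γ(Y, U) Γ(X, V)) (Ideal.LiesOver.over (p := p) (P := q))
  have hsq : (eB : Localization.AtPrime q →+* X.presheaf.stalk x).comp φl =
      (φ.stalkMap x).hom.comp (eA : Localization.AtPrime p →+* Y.presheaf.stalk (φ x)) := by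
    refine IsLocalization.ringHom_ext p.primeCompl (RingHom.ext fun a => ?_)
    show eB (φl (algebraMap Γ(Y, U) _ a)) = (φ.stalkMap x).hom (eA (algebraMap Γ(Y, U) _ a))
    rw [Localization.localRingHom_to_map, heA, heB, RingHom.algebraMap_toAlgebra]
    erw [Scheme.Hom.germ_stalkMap_apply]
    rw [Scheme.Hom.app_eq_appLE]
    erw [← X.presheaf.germ_res_apply (homOfLE hVU) x hxV]
    exact (congrArg (fun (m : Γ(Y, U) ⟶ Γ(X, V)) => X.presheaf.germ V x hxV (m a))
      (Scheme.Hom.appLE_map φ (le_refl _) (homOfLE hVU).op)).symm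
  haveI : IsNoetherianRing (Localization.AtPrime p) := isNoetherianRing_of_ringEquiv _ eA.symm
  haveI : IsDomain (Localization.AtPrime p) := eA.toMulEquiv.isDomain
  haveI : IsIntegrallyClosed (Localization.AtPrime p) := IsIntegrallyClosed.of_equiv eA.symm
  have hloc : Function.Injective φl := fun a b h => by
    have h' := congrArg eB h
    rw [← RingEquiv.coe_toRingHom, ← RingHom.comp_apply, ← RingHom.comp_apply, hsq] at h'
    exact eA.injective (hinj h')
  let w := g.asFiber (φ x)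
  let z := (φ ≫ g).asFiber x
  have hw : g.fiberι (g (φ x)) w = φ x := g.fiberι_asFiber (φ x)
  have hz : (φ ≫ g).fiberι ((φ ≫ g) x) z = x := (φ ≫ g).fiberι_asFiber x
  have keyY : ∀ (y : Y) (_ : g.fiberι (g (φ x)) w = y), ∃ π : Y.presheaf.stalk y →+* (g.fiber (g (φ x))).presheaf.stalk w,
      Function.Surjective π ∧ RingHom.ker π = (maximalIdeal (S.presheaf.stalk (g y))).map (g.stalkMap y).hom := by
    rintro _ rfl
    exact ⟨((g.fiberι (g (φ x))).stalkMap w).hom, (g.fiberι (g (φ x))).stalkMap_surjective w,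
      FlatDvr.ker_stalkMap_fiberι g w⟩
  have keyX : ∀ (x' : X) (_ : (φ ≫ g).fiberι ((φ ≫ g) x) z = x'),
      ∃ π : X.presheaf.stalk x' →+* ((φ ≫ g).fiber ((φ ≫ g) x)).presheaf.stalk z,
      Function.Surjective π ∧
        RingHom.ker π = (maximalIdeal (S.presheaf.stalk ((φ ≫ g) x'))).map ((φ ≫ g).stalkMap x').hom := by
    rintro _ rfl
    exact ⟨(((φ ≫ g).fiberι ((φ ≫ g) x)).stalkMap z).hom, ((φ ≫ g).fiberι ((φ ≫ g) x)).stalkMap_surjective z,
      FlatDvr.ker_stalkMap_fiberι (φ ≫ g) z⟩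
  obtain ⟨πy, hπy, hky⟩ := keyY (φ x) hw
  obtain ⟨πx, hπx, hkx⟩ := keyX x hz
  refine numGeomBranches_quot_le Γ(Y, U) Γ(X, V) p q hloc (πy.comp (eA : _ →+* _)) (hπy.comp eA.surjective)
    (πx.comp (eB : _ →+* _)) (hπx.comp eB.surjective) ?_
  rw [← RingHom.comap_ker, ← RingHom.comap_ker]
  have hA : (RingHom.ker πy).comap (eA : Localization.AtPrime p →+* Y.presheaf.stalk (φ x)) =
      (RingHom.ker πy).map (eA.symm : Y.presheaf.stalk (φ x) →+* Localization.AtPrime p) :=
    (Ideal.map_symm (f := eA)).symm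
  have hB : (RingHom.ker πx).comap (eB : Localization.AtPrime q →+* X.presheaf.stalk x) =
      (RingHom.ker πx).map (eB.symm : X.presheaf.stalk x →+* Localization.AtPrime q) :=
    (Ideal.map_symm (f := eB)).symm
  rw [hA, hB, hky, hkx, Ideal.map_map, Ideal.map_map, Ideal.map_map, Scheme.Hom.stalkMap_comp]
  congr 1
  ext a
  apply eB.injective
  show eB (φl (eA.symm ((g.stalkMap (φ x)).hom a))) = eB (eB.symm (((g.stalkMap (φ x)) ≫ φ.stalkMap x).hom a))
  rw [← RingEquiv.coe_toRingHom, ← RingHom.comp_apply, hsq]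
  simp

end Groth.Agent.BranchCount
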