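import Groth.Agent.BranchCount.Strict
import Groth.Agent.S0506
import Groth.Agent.S2736
import Groth.Agent.S2749
import Groth.Agent.S9458
import Groth.Agent.S9812
import Groth.Agent.Hensel.HenselizationProps
import Mathlib.RingTheory.Flat.FaithfullyFlat.Algebra

/-!
# Branches along quasi-finite injective maps to a normal target
-/

set_option linter.style.haveILetI false
set_option maxHeartbeats 1000000

universe u

open IsLocalRing

noncomputable section

namespace Groth.Agent.BranchCount

/-- A prime of a henselization domain over the zero prime is zero. -/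
theorem eq_bot_of_comap_eq_bot_hensel (A S : Type u) [CommRing A] [IsLocalRing A] [IsNoetherianRing A] [IsDomain A]
    [CommRing S] [IsLocalRing S] [IsDomain S] [Algebra A S] [IsLocalHom (algebraMap A S)]
    [Hensel.IsHenselization A S] [Module.FaithfullyFlat A S]
    (K : Ideal S) [K.IsPrime] (hK : K.comap (algebraMap A S) = ⊥) : K = ⊥ := by
  haveI : FaithfulSMul A S := inferInstance
  obtain ⟨n, F, _, _, -, ⟨e⟩⟩ := S2736.result A S (⊥ : Ideal A)
  haveI : IsArtinianRing ((⊥ : Ideal A).Fiber S) := e.toRingEquiv.symm.isArtinianRing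
  have hb : (⊥ : Ideal S).comap (algebraMap A S) = ⊥ := by
    rw [← RingHom.ker_eq_comap_bot, (RingHom.injective_iff_ker_eq_bot _).1 (FaithfulSMul.algebraMap_injective A S)]
  let o := PrimeSpectrum.primesOverOrderIsoFiber A S (⊥ : Ideal A)
  let k₀ : (⊥ : Ideal A).primesOver S := ⟨⊥, Ideal.isPrime_bot, ⟨hb.symm⟩⟩
  let k₁ : (⊥ : Ideal A).primesOver S := ⟨K, inferInstance, ⟨hK.symm⟩⟩
  have hle : o k₀ ≤ o k₁ := o.monotone (bot_le : (⊥ : Ideal S) ≤ K)
  have h1 : (o k₀).asIdeal = (o k₁).asIdeal :=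
    (IsArtinianRing.isMaximal_of_isPrime (o k₀).asIdeal).eq_of_le (o k₁).2.ne_top hle
  exact (congrArg Subtype.val (o.injective (PrimeSpectrum.ext h1))).symm

/-- A prime minimal over an extended ideal contracts to a minimal one, for a flat extension. -/
theorem comap_mem_minimalPrimes {A S : Type u} [CommRing A] [CommRing S] [Algebra A S] [Module.Flat A S]
    (I : Ideal A) {P : Ideal S} (hP : P ∈ (I.map (algebraMap A S)).minimalPrimes) :
    P.comap (algebraMap A S) ∈ I.minimalPrimes := by
  haveI := hP.1.1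
  refine ⟨⟨Ideal.IsPrime.comap _, Ideal.map_le_iff_le_comap.1 hP.1.2⟩, fun J hJ hle => ?_⟩
  haveI := hJ.1
  haveI : Algebra.HasGoingDown A S := Algebra.HasGoingDown.of_flat
  haveI : P.LiesOver (P.comap (algebraMap A S)) := ⟨rfl⟩
  obtain ⟨K, hKle, hKp, hKJ⟩ := Ideal.exists_ideal_le_liesOver_of_le (Q := P) (p := J) (q := P.comap (algebraMap A S)) hle
  haveI := hKJ
  have h1 : I.map (algebraMap A S) ≤ K := Ideal.map_le_iff_le_comap.2 (hJ.2.trans (le_of_eq (Ideal.LiesOver.over (P := K) (p := J))))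
  have h2 : P ≤ K := hP.2 ⟨hKp, h1⟩ hKle
  rw [Ideal.LiesOver.over (P := K) (p := J)]
  exact Ideal.comap_mono h2

/-- Branches of closed subschemes along a quasi-finite injective map from a normal base. -/
theorem numBranches_quot_le (A B : Type u) [CommRing A] [CommRing B] [Algebra A B] [Algebra.FiniteType A B]
    (p : Ideal A) [p.IsPrime] (q : Ideal B) [q.IsPrime] [q.LiesOver p] [Algebra.QuasiFiniteAt A q]
    [IsNoetherianRing (Localization.AtPrime p)] [IsDomain (Localization.AtPrime p)]
    [IsIntegrallyClosed (Localization.AtPrime p)]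
    (hinj : Function.Injective (Localization.localRingHom p q (algebraMap A B) (Ideal.LiesOver.over (p := p) (P := q))))
    {A' B' : Type u} [CommRing A'] [IsLocalRing A'] [CommRing B'] [IsLocalRing B']
    (πA : Localization.AtPrime p →+* A') (hπA : Function.Surjective πA)
    (πB : Localization.AtPrime q →+* B') (hπB : Function.Surjective πB)
    (hle : ∀ Q : Ideal (Localization.AtPrime q), Q.IsPrime → RingHom.ker πB ≤ Q → RingHom.ker πA ≤
      Q.comap (Localization.localRingHom p q (algebraMap A B) (Ideal.LiesOver.over (p := p) (P := q))))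
    (hge : ∀ Q : Ideal (Localization.AtPrime q), Q.IsPrime →
      Q.comap (Localization.localRingHom p q (algebraMap A B) (Ideal.LiesOver.over (p := p) (P := q))) ∈
        (RingHom.ker πA).minimalPrimes → RingHom.ker πB ≤ Q) :
    Brnch.numBranches A' ≤ Brnch.numBranches B' := by
  let φ := Localization.localRingHom p q (algebraMap A B) (Ideal.LiesOver.over (p := p) (P := q))
  haveI : IsLocalHom φ := Localization.isLocalHom_localRingHom p q (algebraMap A B) _
  let Ap := Localization.AtPrime p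
  let Bq := Localization.AtPrime q
  obtain ⟨Rh, _, _, _, _, hRh⟩ := S0506.result Ap
  obtain ⟨Sh, _, _, _, _, hSh⟩ := S0506.result Bq
  haveI : HenselianLocalRing Sh := hSh.henselian
  let ψ : Ap →+* Sh := (algebraMap Bq Sh).comp φ
  haveI : IsLocalHom ψ := RingHom.isLocalHom_comp (algebraMap Bq Sh) φ
  obtain ⟨g, hg, -⟩ := hRh.universal Sh ψ inferInstance
  letI : Algebra Ap Bq := φ.toAlgebra
  haveI : IsScalarTower A Ap Bq := IsScalarTower.of_algebraMap_eq fun a => by
    show _ = φ (algebraMap A Ap a)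
    rw [Localization.localRingHom_to_map, ← IsScalarTower.algebraMap_apply]
  letI : Algebra Ap Sh := ψ.toAlgebra
  haveI : IsScalarTower Ap Bq Sh := IsScalarTower.of_algebraMap_eq fun _ => rfl
  letI : Algebra Rh Sh := g.toAlgebra
  haveI : IsScalarTower Ap Rh Sh := IsScalarTower.of_algebraMap_eq fun a => (RingHom.congr_fun hg a).symm
  haveI : Module.Finite Rh Sh := S9458.result A B p q Rh Sh
  haveI : Module.FaithfullyFlat Bq Sh := Groth.Agent.Hensel.faithfullyFlat_of_isHenselization Bq Sh
  haveI : Module.FaithfullyFlat Ap Rh := Groth.Agent.Hensel.faithfullyFlat_of_isHenselization Ap Rh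
  haveI : IsDomain Rh := (S2749.result Ap Rh).1 ⟨inferInstance, (S9812.result Ap).1⟩
  have hψ : Function.Injective ψ := fun a b h => hinj (FaithfulSMul.algebraMap_injective Bq Sh h)
  have hgi : Function.Injective g := by
    rw [RingHom.injective_iff_ker_eq_bot]
    have hsub : ∀ a, algebraMap Ap Rh a ∈ RingHom.ker g → a = 0 := fun a ha => hψ (by
      rw [← hg, map_zero]; exact ha)
    obtain ⟨K, hKp, hKle, hKd⟩ := Ideal.exists_le_prime_disjoint (RingHom.ker g)
      ((nonZeroDivisors Ap).map (algebraMap Ap Rh).toMonoidHom) (Set.disjoint_left.2 fun z hz hz' => by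
        obtain ⟨a, ha, rfl⟩ := hz'
        exact nonZeroDivisors.ne_zero ha (hsub a hz))
    haveI := hKp
    have hK : K = ⊥ := eq_bot_of_comap_eq_bot_hensel Ap Rh K (by
      rw [eq_bot_iff]
      intro a ha
      by_contra hne
      exact Set.disjoint_left.1 hKd ha ⟨a, mem_nonZeroDivisors_of_ne_zero hne, rfl⟩)
    exact le_bot_iff.1 (hK ▸ hKle)
  haveI : FaithfulSMul Rh Sh := (faithfulSMul_iff_algebraMap_injective Rh Sh).2 hgi
  rw [← BrnchLib.card_minimalPrimes_over_ker πA hπA Rh, ← BrnchLib.card_minimalPrimes_over_ker πB hπB Sh]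
  refine le_trans (Set.encard_le_encard ?_) (Set.encard_image_le (fun Q => Q.comap (algebraMap Rh Sh)) _)
  intro P hP
  have hPmin := comap_mem_minimalPrimes (RingHom.ker πA) hP
  haveI := hP.1.1
  have hbot : (⊥ : Ideal Sh).comap (algebraMap Rh Sh) ≤ P := by
    rw [← RingHom.ker_eq_comap_bot, show algebraMap Rh Sh = g from rfl, (RingHom.injective_iff_ker_eq_bot _).1 hgi]
    exact bot_le
  obtain ⟨Q', -, hQ'p, hQ'⟩ := Ideal.exists_ideal_over_prime_of_isIntegral P (⊥ : Ideal Sh) hbot
  haveI := hQ'p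
  have hc : ∀ (Q : Ideal Sh), (Q.comap (algebraMap Bq Sh)).comap φ = (Q.comap (algebraMap Rh Sh)).comap (algebraMap Ap Rh) :=
    fun Q => by rw [Ideal.comap_comap, Ideal.comap_comap, show (algebraMap Rh Sh).comp (algebraMap Ap Rh) = ψ from hg]
  have hJ : RingHom.ker πB ≤ Q'.comap (algebraMap Bq Sh) :=
    hge _ (Ideal.IsPrime.comap _) (by rw [hc, hQ']; exact hPmin)
  obtain ⟨Q, hQ, hQle⟩ := Ideal.exists_minimalPrimes_le (I := (RingHom.ker πB).map (algebraMap Bq Sh)) (J := Q')
    (Ideal.map_le_iff_le_comap.2 hJ)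
  haveI := hQ.1.1
  have hI : (RingHom.ker πA).map (algebraMap Ap Rh) ≤ Q.comap (algebraMap Rh Sh) := by
    rw [Ideal.map_le_iff_le_comap, ← hc]
    exact hle _ (Ideal.IsPrime.comap _) (Ideal.map_le_iff_le_comap.1 hQ.1.2)
  have hcP : Q.comap (algebraMap Rh Sh) ≤ P := (Ideal.comap_mono hQle).trans hQ'.le
  exact ⟨Q, hQ, le_antisymm hcP (hP.2 ⟨Ideal.IsPrime.comap _, hI⟩ hcP)⟩

end Groth.Agent.BranchCount
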