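import Groth.Agent.S7656
import Groth.Agent.MultiCross.Point
import Groth.Agent.BrnchLib.Unibranch
import Groth.Agent.NodeLib.NodalBC
import Groth.Agent.NagataLib.Scheme
import Groth.Agent.FibDim.BaseField

/-!
# A node has at least two geometric branches
-/

set_option linter.style.haveILetI false
set_option backward.isDefEq.respectTransparency false
set_option backward.isDefEq.respectTransparency.types false
set_option maxHeartbeats 1000000

universe u

open CategoryTheory CategoryTheory.Limits AlgebraicGeometry IsLocalRing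

noncomputable section

namespace Groth.Agent.BranchCount

theorem numBranches_le_numGeomBranches (A : Type u) [CommRing A] [IsLocalRing A] :
    Brnch.numBranches A ≤ Brnch.numGeomBranches A := by
  classical
  rw [Brnch.numBranches, Brnch.numGeomBranches]
  by_cases h : (minimalPrimes A).Finite
  · rw [if_pos h, if_pos h]
    refine ENat.card_le_card_of_injective
      (f := fun m => (⟨m, (BrnchLib.subsingleton_emb_iff A m).1.some⟩ :
        Σ m' : MaximalSpectrum (CAlg2.normRed A), Brnch.Emb A m')) ?_
    exact fun a b hab => congrArg Sigma.fst hab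
  · rw [if_neg h, if_neg h]

theorem two_le_numGeomBranchesAt_of_isNode {k : Type u} [Field k] {Y : Scheme.{u}}
    [Y.Over (Spec (CommRingCat.of k))] [LocallyOfFinitePresentation (Y ↘ Spec (CommRingCat.of k))]
    (hdim : ∀ Z ∈ irreducibleComponents (Y : Type u), topologicalKrullDim Z = 1)
    {y : Y} (hy : Curv2.IsNode k Y y) : 2 ≤ Brnch.numGeomBranchesAt Y y := by
  obtain ⟨hyc, xb, hxb, e, he⟩ := hy
  let K := AlgebraicClosure k
  letI : (Curv2.bc k Y K).Over (Spec (CommRingCat.of K)) := ⟨Curv2.bcSnd k Y K⟩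
  letI := Curv2.stalkAlgebra K (Curv2.bc k Y K) xb
  haveI : LocallyOfFinitePresentation ((Curv2.bc k Y K) ↘ Spec (CommRingCat.of K)) :=
    MorphismProperty.pullback_snd (P := @LocallyOfFinitePresentation) _ _ inferInstance
  have hxbc : IsClosed ({xb} : Set (Curv2.bc k Y K)) := NodeLib.isClosed_bc_point xb (by rw [hxb]; exact hyc)
  let g := Spec.map (CommRingCat.ofHom (algebraMap k K))
  haveI : Flat g := NodeLib.flat_spec_field g
  haveI : Surjective g := ⟨fun a => ⟨IsLocalRing.closedPoint K,
    (FibDim.subsingleton_spec_field k).elim _ _⟩⟩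
  haveI : Subsingleton ↥(Spec (CommRingCat.of k)) := FibDim.subsingleton_spec_field k
  haveI : Subsingleton ↥(Spec (CommRingCat.of K)) := FibDim.subsingleton_spec_field K
  have hcomp := FibDim.component_dims_baseChange (f := Y ↘ Spec (CommRingCat.of k)) (g := g)
    (IsPullback.of_hasPullback (Y ↘ Spec (CommRingCat.of k)) g)
  have hdim' : ∀ Z ∈ irreducibleComponents ((Curv2.bc k Y K) : Type u), topologicalKrullDim Z = 1 := by
    intro Z hZ
    obtain ⟨Z', hZ', he⟩ := (Set.ext_iff.1 hcomp (topologicalKrullDim ↥Z)).1 ⟨Z, hZ, rfl⟩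
    exact he.symm.trans (hdim Z' hZ')
  haveI := NodeLib.isNoetherianRing_stalk_of_lft ((Curv2.bc k Y K) ↘ Spec (CommRingCat.of K)) xb
  have hred : _root_.IsReduced ((Curv2.bc k Y K).presheaf.stalk xb) := NodeLib.isReduced_of_isOrdDoublePt ⟨e, he⟩
  have hI : Ideal.span {(MvPowerSeries.X 0 * MvPowerSeries.X 1 : MvPowerSeries (Fin 2) K)} =
      MultiCross.crossI K 2 := by
    refine le_antisymm (Ideal.span_le.2 ?_) (Ideal.span_le.2 ?_)
    · rintro _ rfl
      exact Ideal.subset_span ⟨0, 1, zero_ne_one, rfl⟩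
    · rintro _ ⟨i, j, hij, rfl⟩
      rw [SetLike.mem_coe, Ideal.mem_span_singleton]
      fin_cases i <;> fin_cases j
      all_goals first | exact absurd rfl hij | exact dvd_rfl | exact ⟨1, (mul_comm _ _).trans (mul_one _).symm⟩
  have h := (MultiCross.branches_delta ((Curv2.bc k Y K).presheaf.stalk xb)
    (NagataLib.isNagata_stalk ((Curv2.bc k Y K) ↘ Spec (CommRingCat.of K)) xb)
    (MultiCross.ringKrullDim_stalk_eq_one ((Curv2.bc k Y K) ↘ Spec (CommRingCat.of K)) hdim' hxbc)
    ((e : Curv2.cpl ((Curv2.bc k Y K).presheaf.stalk xb) ≃+* _).trans (Ideal.quotEquivOfEq hI))).1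
  rw [← hxb, S7656.result k Y K xb]
  refine le_trans (le_of_eq ?_) (numBranches_le_numGeomBranches _)
  rw [h]
  rfl

end Groth.Agent.BranchCount
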