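import Groth.Agent.BranchCount.Geom
import Groth.Agent.BranchCount.Node
import Groth.Agent.NodeLib.NormalFamily
import Groth.Agent.RegLoc6.Normal
import Groth.Agent.SmoothReg.Scheme
import Groth.Agent.S2156
import Groth.Agent.FibIso.Dvr
import Groth.Agent.S2743
import Groth.Agent.S9238
import Groth.Prelude.Def_DualGr
import Groth.Prelude.Def_Curve
import Mathlib.AlgebraicGeometry.Morphisms.UniversallyOpen

/-!
# Finite preimages of singular points of nodal models are singular
-/

set_option linter.style.haveILetI false
set_option backward.isDefEq.respectTransparency false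
set_option backward.isDefEq.respectTransparency.types false
set_option maxHeartbeats 1000000

universe u

open CategoryTheory CategoryTheory.Limits AlgebraicGeometry IsLocalRing

noncomputable section

namespace Groth.Agent.BranchCount

theorem numGeomBranches_of_regular (A : Type u) [CommRing A] [IsLocalRing A] [IsNoetherianRing A]
    (h : IsRegularLocalRing A) : Brnch.numGeomBranches A = 1 := by
  obtain ⟨S, _, _, _, _, hS⟩ := S0537.result A
  haveI := (S2743.result A S).2 h
  haveI := RegLoc6.isDomain_of_isRegularLocalRing S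
  rw [← S9238.result A S, IsDomain.minimalPrimes_eq_singleton_bot]
  simp

theorem isOpenImmersion_frac (R : Type u) [CommRing R] [IsDomain R] [IsDiscreteValuationRing R] :
    IsOpenImmersion (Spec.map (CommRingCat.ofHom (algebraMap R (FractionRing R)))) := by
  obtain ⟨ϖ, hϖ⟩ := IsDiscreteValuationRing.exists_irreducible R
  haveI : IsLocalization.Away ϖ (FractionRing R) := by
    refine (IsLocalization.iff_of_le_of_exists_dvd (Submonoid.powers ϖ) (nonZeroDivisors R)
      (Submonoid.powers_le.2 (mem_nonZeroDivisors_of_ne_zero hϖ.ne_zero)) fun a ha => ?_).2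
      (inferInstanceAs (IsLocalization (nonZeroDivisors R) (FractionRing R)))
    obtain ⟨n, hn⟩ := IsDiscreteValuationRing.associated_pow_irreducible (nonZeroDivisors.ne_zero ha) hϖ
    exact ⟨ϖ ^ n, ⟨n, rfl⟩, hn.dvd⟩
  exact IsOpenImmersion.of_isLocalization ϖ

theorem range_iota {R : Type u} [CommRing R] [IsDomain R] {X XR : Scheme.{u}}
    {f : X ⟶ Spec (CommRingCat.of (FractionRing R))} {p : XR ⟶ Spec (CommRingCat.of R)} {i : X ⟶ XR}
    (hi : IsPullback i f p (Spec.map (CommRingCat.ofHom (algebraMap R (FractionRing R)))))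
    {z : XR} (hz : (p z).asIdeal = ⊥) : z ∈ Set.range i := by
  rw [← hi.isoPullback_hom_fst, Scheme.Hom.comp_base]
  show z ∈ Set.range (pullback.fst p _ ∘ hi.isoPullback.hom)
  rw [Function.Surjective.range_comp (show Function.Surjective hi.isoPullback.hom from
      (Scheme.Hom.homeomorph hi.isoPullback.hom).surjective),
    Scheme.Pullback.range_fst]
  refine ⟨IsLocalRing.closedPoint (FractionRing R), PrimeSpectrum.ext ?_⟩
  show (IsLocalRing.maximalIdeal (FractionRing R)).comap (algebraMap R (FractionRing R)) = (p z).asIdeal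
  rw [hz, IsLocalRing.maximalIdeal_eq_bot, ← RingHom.ker_eq_comap_bot,
    (RingHom.injective_iff_ker_eq_bot _).1 (IsFractionRing.injective R (FractionRing R))]

/-- A nodal model of a smooth curve is normal. -/
theorem normal_model {R : Type u} [CommRing R] [IsDomain R] [IsDiscreteValuationRing R]
    {X XR : Scheme.{u}} {f : X ⟶ Spec (CommRingCat.of (FractionRing R))} [Smooth f]
    {p : XR ⟶ Spec (CommRingCat.of R)} (hp : Curv2.IsNodalFamily p) {i : X ⟶ XR}
    (hi : IsPullback i f p (Spec.map (CommRingCat.ofHom (algebraMap R (FractionRing R))))) (x : XR) :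
    IsDomain (XR.presheaf.stalk x) ∧ IsIntegrallyClosed (XR.presheaf.stalk x) := by
  haveI := isOpenImmersion_frac R
  haveI : IsOpenImmersion i := MorphismProperty.of_isPullback hi.flip inferInstance
  refine NodeLib.normal_of_generic p hp (fun z hz => ?_) x
  obtain ⟨c, rfl⟩ := range_iota hi hz
  haveI := FibIso.isRegularLocalRing_stalk_of_smooth f c
  haveI : IsRegularLocalRing (XR.presheaf.stalk (i c)) :=
    IsRegularLocalRing.of_ringEquiv (asIso (i.stalkMap c)).commRingCatIsoToRingEquiv.symm
  exact ⟨RegLoc6.isDomain_of_isRegularLocalRing _, RegLoc6.isIntegrallyClosed_of_isRegularLocalRing _⟩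

theorem preimage_subset_nonsmoothPts {R : Type u} [CommRing R] [IsDomain R] [IsDiscreteValuationRing R]
    {X Y : Scheme.{u}} {fX : X ⟶ Spec (CommRingCat.of (FractionRing R))}
    {fY : Y ⟶ Spec (CommRingCat.of (FractionRing R))}
    (hX : Curve.IsSmoothProperCurve (FractionRing R) X fX) (hY : Curve.IsSmoothProperCurve (FractionRing R) Y fY)
    (f : X ⟶ Y) [IsFinite f]
    {XR YR : Scheme.{u}} (φ : XR ⟶ YR) (q : YR ⟶ Spec (CommRingCat.of R))
    (hp : Curv2.IsNodalFamily (φ ≫ q)) (hq : Curv2.IsNodalFamily q)
    {iX : X ⟶ XR} (hiX : IsPullback iX fX (φ ≫ q) (Spec.map (CommRingCat.ofHom (algebraMap R (FractionRing R)))))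
    {iY : Y ⟶ YR} (hiY : IsPullback iY fY q (Spec.map (CommRingCat.ofHom (algebraMap R (FractionRing R)))))
    (hφf : iX ≫ φ = f ≫ iY)
    (x : XR) (hy : φ x ∈ DualGr.nonsmoothPts q) (hfin : (φ.base ⁻¹' ({φ x} : Set YR)).Finite) :
    x ∈ DualGr.nonsmoothPts (φ ≫ q) := by
  obtain ⟨-, hXs, hXi, hXd⟩ := hX
  obtain ⟨-, hYs, hYi, hYd⟩ := hY
  haveI := hXs; haveI := hYs; haveI := hXi; haveI := hYi
  haveI : IsNoetherianRing (CommRingCat.of R) := inferInstanceAs (IsNoetherianRing R)
  haveI := hp.1; haveI := hp.2.1; haveI := hq.1; haveI := hq.2.1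
  haveI : IsLocallyNoetherian YR := LocallyOfFiniteType.isLocallyNoetherian q
  haveI : LocallyOfFiniteType φ := locallyOfFiniteType_of_comp φ q
  intro hsmooth
  obtain ⟨hdom, hnorm⟩ := normal_model hq hiY (φ x)
  -- quasi-finiteness
  have hqf : φ.QuasiFiniteAt x := by
    rw [Scheme.Hom.quasiFiniteAt_iff_isOpen_singleton_asFiber]
    haveI : Finite ↥(φ.fiber (φ x)) :=
      haveI := hfin.to_subtype
      Finite.of_equiv _ (φ.fiberHomeo (φ x)).toEquiv.symm
    haveI : JacobsonSpace ↥(φ.fiber (φ x)) := LocallyOfFiniteType.jacobsonSpace (φ.fiberToSpecResidueField (φ x))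
    exact isOpen_discrete _
  -- injectivity of the map of local rings
  have hinj : Function.Injective (φ.stalkMap x).hom := by
    obtain ⟨z, hzx, hz⟩ := Flat.generalizingMap (φ ≫ q)
      (show (⟨⊥, Ideal.isPrime_bot⟩ : PrimeSpectrum R) ⤳ (φ ≫ q) x from
        (PrimeSpectrum.le_iff_specializes _ _).1 (bot_le (α := Ideal R)))
    obtain ⟨c, rfl⟩ := range_iota hiX (show ((φ ≫ q) z).asIdeal = ⊥ by rw [hz])
    have hη : iX (genericPoint X) ⤳ x := ((genericPoint_specializes c).map iX.continuous).trans hzx
    have hfη : f (genericPoint X) = genericPoint Y := by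
      by_contra hne
      have hclosed : ∀ y' : Y, f (genericPoint X) ⤳ y' → y' = f (genericPoint X) := fun y' h => by
        by_contra hne'
        refine absurd (show topologicalKrullDim Y ≤ 1 from hYd.le) ?_
        rw [topologicalKrullDim, Order.krullDim_eq_of_orderIso (irreducibleSetEquivPoints (α := Y)),
          Order.krullDim_le_one_iff]
        push Not
        refine ⟨f (genericPoint X), ?_, ?_⟩
        · rw [not_isMin_iff]
          exact ⟨y', lt_of_le_not_ge (show y' ≤ f (genericPoint X) from h) fun h' => hne' ((show y' ⤳ _ from h').antisymm h).eq⟩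
        · rw [not_isMax_iff]
          exact ⟨genericPoint Y, lt_of_le_not_ge (genericPoint_specializes _) fun h' =>
            hne ((show f (genericPoint X) ⤳ genericPoint Y from h').antisymm (genericPoint_specializes _)).eq⟩
      have hall : ∀ c : X, c = genericPoint X := fun c =>
        ((f.isDiscrete_preimage_singleton (f (genericPoint X))).eq_of_specializes (genericPoint_specializes c)
          rfl (hclosed _ ((genericPoint_specializes c).map f.continuous))).symm
      haveI : Subsingleton X := ⟨fun a b => (hall a).trans (hall b).symm⟩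
      have h0 : topologicalKrullDim X ≤ 0 := by
        rw [topologicalKrullDim, Order.krullDim_eq_of_orderIso (irreducibleSetEquivPoints (α := X))]
        exact Order.krullDim_nonpos_of_subsingleton
      rw [hXd] at h0
      exact absurd h0 (by decide)
    have hζ : φ (iX (genericPoint X)) = iY (genericPoint Y) := by
      rw [← hfη, ← Scheme.Hom.comp_apply, hφf]; rfl
    haveI := isOpenImmersion_frac R
    haveI : IsOpenImmersion iY := MorphismProperty.of_isPullback hiY.flip inferInstance
    have hfield : IsField (YR.presheaf.stalk (φ (iX (genericPoint X)))) := by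
      rw [hζ]
      exact MulEquiv.isField (Field.toIsField Y.functionField)
        (asIso (iY.stalkMap (genericPoint Y))).commRingCatIsoToRingEquiv.toMulEquiv
    have hsp : Function.Injective (YR.presheaf.stalkSpecializes (hη.map φ.continuous)).hom := by
      obtain ⟨N, hN⟩ := VarGeom.exists_isLocalization_stalkSpecializes (hη.map φ.continuous)
      letI := (YR.presheaf.stalkSpecializes (hη.map φ.continuous)).hom.toAlgebra
      haveI := hN
      refine IsLocalization.injective (M := N) (YR.presheaf.stalk (φ (iX (genericPoint X)))) fun a ha =>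
        mem_nonZeroDivisors_of_ne_zero fun h0 => ?_
      have hu := IsLocalization.map_units (YR.presheaf.stalk (φ (iX (genericPoint X)))) (⟨a, ha⟩ : N)
      rw [show algebraMap _ (YR.presheaf.stalk (φ (iX (genericPoint X)))) (a : YR.presheaf.stalk (φ x)) = 0 by
        rw [h0, map_zero]] at hu
      exact not_isUnit_zero hu
    letI := hfield.toField
    have hinj' : Function.Injective (φ.stalkMap (iX (genericPoint X))).hom :=
      RingHom.injective _
    refine Function.Injective.of_comp (f := (XR.presheaf.stalkSpecializes hη).hom) ?_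
    rw [← RingHom.coe_comp, ← CommRingCat.hom_comp, ← Scheme.Hom.stalkSpecializes_stalkMap φ _ _ hη,
      CommRingCat.hom_comp, RingHom.coe_comp]
    exact hinj'.comp hsp
  -- branches
  have h := numGeomBranchesAt_fibre_le q φ x hqf hdom hnorm hinj
  let sy := q (φ x)
  let sx := (φ ≫ q) x
  haveI : LocallyOfFinitePresentation (q.fiberToSpecResidueField sy) :=
    MorphismProperty.pullback_snd (P := @LocallyOfFinitePresentation) q _ hq.2.1
  haveI : LocallyOfFinitePresentation ((φ ≫ q).fiberToSpecResidueField sx) :=
    MorphismProperty.pullback_snd (P := @LocallyOfFinitePresentation) (φ ≫ q) _ hp.2.1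
  letI : (q.fiber sy).Over (Spec (CommRingCat.of ((Spec (CommRingCat.of R)).residueField sy))) :=
    ⟨q.fiberToSpecResidueField sy⟩
  haveI : LocallyOfFinitePresentation
      (q.fiber sy ↘ Spec (CommRingCat.of ((Spec (CommRingCat.of R)).residueField sy))) :=
    ‹LocallyOfFinitePresentation (q.fiberToSpecResidueField sy)›
  have hnode : Curv2.IsNode ((Spec (CommRingCat.of R)).residueField sy) (q.fiber sy) (q.asFiber (φ x)) := by
    have hdim := NodeLib.dim_le_one_of_components
      (q.fiber sy ↘ Spec (CommRingCat.of ((Spec (CommRingCat.of R)).residueField sy))) (hq.2.2 sy).1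
    refine ((NodeLib.atWorstNodal_iff hdim).1 (hq.2.2 sy).2 (q.asFiber (φ x))).resolve_left fun hs => hy ?_
    exact ((S2156.result q (φ x)).2 ⟨Flat.stalkMap q (φ x), hs⟩)
  have h2 := two_le_numGeomBranchesAt_of_isNode (hq.2.2 sy).1 hnode
  have hs : (φ ≫ q).asFiber x ∈ ((φ ≫ q).fiberToSpecResidueField sx).smoothLocus :=
    ((S2156.result (φ ≫ q) x).1 hsmooth).2
  haveI := SmoothReg.isRegularLocalRing_stalk_of_mem_smoothLocus _ hs
  haveI : IsLocallyNoetherian ((φ ≫ q).fiber sx) :=
    LocallyOfFiniteType.isLocallyNoetherian ((φ ≫ q).fiberToSpecResidueField sx)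
  have h1 : Brnch.numGeomBranchesAt ((φ ≫ q).fiber sx) ((φ ≫ q).asFiber x) = 1 :=
    numGeomBranches_of_regular _ inferInstance
  have := (h2.trans h).trans h1.le
  exact absurd this (by decide)

end Groth.Agent.BranchCount
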