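import Groth.Agent.VarGeom.Normal
import Groth.Agent.BranchCount.ClosedSub

/-!
# Stalk maps of surjective morphisms of integral schemes
-/

set_option linter.style.haveILetI false
set_option backward.isDefEq.respectTransparency false

universe u

open CategoryTheory AlgebraicGeometry

noncomputable section

namespace Groth.Agent.BranchCount

theorem stalkMap_injective_of_surjective {X Y : Scheme.{u}} [IsIntegral X] [IsIntegral Y] (f : X ⟶ Y) [Surjective f]
    (x : X) : Function.Injective (f.stalkMap x).hom := by
  have hη : genericPoint X ⤳ x := genericPoint_specializes x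
  have hf : f (genericPoint X) = genericPoint Y := by
    obtain ⟨z, hz⟩ := f.surjective (genericPoint Y)
    have h1 : f (genericPoint X) ⤳ genericPoint Y := hz ▸ (genericPoint_specializes z).map f.continuous
    exact (h1.antisymm (genericPoint_specializes _)).eq
  have hfield : IsField (Y.presheaf.stalk (f (genericPoint X))) := by
    rw [hf]; exact Field.toIsField Y.functionField
  have hsp : Function.Injective (Y.presheaf.stalkSpecializes (hη.map f.continuous)).hom := by
    obtain ⟨N, hN⟩ := VarGeom.exists_isLocalization_stalkSpecializes (hη.map f.continuous)
    letI := (Y.presheaf.stalkSpecializes (hη.map f.continuous)).hom.toAlgebra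
    haveI := hN
    refine IsLocalization.injective (M := N) (Y.presheaf.stalk (f (genericPoint X))) fun a ha =>
      mem_nonZeroDivisors_of_ne_zero fun h0 => ?_
    have hu := IsLocalization.map_units (Y.presheaf.stalk (f (genericPoint X))) (⟨a, ha⟩ : N)
    rw [show algebraMap _ (Y.presheaf.stalk (f (genericPoint X))) (a : Y.presheaf.stalk (f x)) = 0 by
      rw [h0, map_zero]] at hu
    exact not_isUnit_zero hu
  letI := hfield.toField
  have hinj : Function.Injective (f.stalkMap (genericPoint X)).hom := RingHom.injective _
  refine Function.Injective.of_comp (f := (X.presheaf.stalkSpecializes hη).hom) ?_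
  rw [← RingHom.coe_comp, ← CommRingCat.hom_comp, ← Scheme.Hom.stalkSpecializes_stalkMap f _ _ hη,
    CommRingCat.hom_comp, RingHom.coe_comp]
  exact hinj.comp hsp

end Groth.Agent.BranchCount
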