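import Groth.Agent.BrnchLib.HenzQuot
import Groth.Agent.S0537
import Groth.Agent.S0539
import Groth.Agent.S2748
import Groth.Agent.S2817
import Groth.Agent.S9461
import Mathlib.RingTheory.LocalRing.ResidueField.Fiber

/-!
# Geometric branches do not increase under quasi-finite injective maps to a normal target
-/

set_option linter.style.haveILetI false
set_option maxHeartbeats 1000000

universe u

open IsLocalRing

noncomputable section

namespace Groth.Agent.BranchCount

/-- A prime of a strict henselization domain over the zero prime is zero. -/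
theorem eq_bot_of_comap_eq_bot (A S : Type u) [CommRing A] [IsLocalRing A] [IsNoetherianRing A] [IsDomain A]
    [CommRing S] [IsLocalRing S] [IsDomain S] [Algebra A S] [IsLocalHom (algebraMap A S)]
    [Hensel.IsStrictHenselization A S]
    (K : Ideal S) [K.IsPrime] (hK : K.comap (algebraMap A S) = ⊥) : K = ⊥ := by
  haveI : Module.FaithfullyFlat A S := S0539.result A S
  haveI : FaithfulSMul A S := inferInstance
  obtain ⟨n, F, _, _, -, ⟨e⟩⟩ := S2817.result A S (⊥ : Ideal A)
  haveI : IsArtinianRing ((⊥ : Ideal A).Fiber S) := e.toRingEquiv.symm.isArtinianRing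
  have hb : (⊥ : Ideal S).comap (algebraMap A S) = ⊥ := by
    rw [← RingHom.ker_eq_comap_bot, (RingHom.injective_iff_ker_eq_bot _).1 (FaithfulSMul.algebraMap_injective A S)]
  let o := PrimeSpectrum.primesOverOrderIsoFiber A S (⊥ : Ideal A)
  let k₀ : (⊥ : Ideal A).primesOver S := ⟨⊥, Ideal.isPrime_bot, ⟨hb.symm⟩⟩
  let k₁ : (⊥ : Ideal A).primesOver S := ⟨K, inferInstance, ⟨hK.symm⟩⟩
  have hle : o k₀ ≤ o k₁ := o.monotone (bot_le : (⊥ : Ideal S) ≤ K)
  have h1 : (o k₀).asIdeal = (o k₁).asIdeal :=
    (IsArtinianRing.isMaximal_of_isPrime (o k₀).asIdeal).eq_of_le (o k₁).2.ne_top hle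
  exact (congrArg Subtype.val (o.injective (PrimeSpectrum.ext h1))).symm

/-- Lying over: the minimal primes over an extended ideal surject onto those over the ideal. -/
theorem encard_minimalPrimes_le {S T : Type u} [CommRing S] [CommRing T] [Algebra S T] [Algebra.IsIntegral S T]
    [FaithfulSMul S T] (J : Ideal S) :
    J.minimalPrimes.encard ≤ (J.map (algebraMap S T)).minimalPrimes.encard := by
  refine le_trans (Set.encard_le_encard ?_) (Set.encard_image_le (fun Q => Q.comap (algebraMap S T)) _)
  intro P hP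
  haveI := hP.1.1
  have hker : (⊥ : Ideal T).comap (algebraMap S T) ≤ P := by
    rw [← RingHom.ker_eq_comap_bot, (RingHom.injective_iff_ker_eq_bot _).1 (FaithfulSMul.algebraMap_injective S T)]
    exact bot_le
  obtain ⟨Q', -, hQ'p, hQ'⟩ := Ideal.exists_ideal_over_prime_of_isIntegral P (⊥ : Ideal T) hker
  haveI := hQ'p
  obtain ⟨Q, hQ, hle⟩ := Ideal.exists_minimalPrimes_le (I := J.map (algebraMap S T)) (J := Q')
    (Ideal.map_le_iff_le_comap.2 (hP.1.2.trans hQ'.ge))
  haveI := hQ.1.1
  have hc : Q.comap (algebraMap S T) ≤ P := (Ideal.comap_mono hle).trans hQ'.le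
  exact ⟨Q, hQ, le_antisymm hc (hP.2 ⟨Ideal.IsPrime.comap _, Ideal.map_le_iff_le_comap.1 hQ.1.2⟩ hc)⟩

/-- Geometric branches of a closed subscheme do not increase along a quasi-finite injective map from a normal base. -/
theorem numGeomBranches_quot_le (A B : Type u) [CommRing A] [CommRing B] [Algebra A B] [Algebra.FiniteType A B]
    (p : Ideal A) [p.IsPrime] (q : Ideal B) [q.IsPrime] [q.LiesOver p] [Algebra.QuasiFiniteAt A q]
    [IsNoetherianRing (Localization.AtPrime p)] [IsDomain (Localization.AtPrime p)]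
    [IsIntegrallyClosed (Localization.AtPrime p)]
    (hinj : Function.Injective (Localization.localRingHom p q (algebraMap A B) (Ideal.LiesOver.over (p := p) (P := q))))
    {A' B' : Type u} [CommRing A'] [IsLocalRing A'] [CommRing B'] [IsLocalRing B']
    (πA : Localization.AtPrime p →+* A') (hπA : Function.Surjective πA)
    (πB : Localization.AtPrime q →+* B') (hπB : Function.Surjective πB)
    (hker : (RingHom.ker πA).map (Localization.localRingHom p q (algebraMap A B) (Ideal.LiesOver.over (p := p) (P := q))) =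
      RingHom.ker πB) :
    Brnch.numGeomBranches A' ≤ Brnch.numGeomBranches B' := by
  set φ := Localization.localRingHom p q (algebraMap A B) (Ideal.LiesOver.over (p := p) (P := q)) with hφ
  haveI : IsLocalHom φ := Localization.isLocalHom_localRingHom p q (algebraMap A B) _
  let Ap := Localization.AtPrime p
  let Bq := Localization.AtPrime q
  obtain ⟨Rh, _, _, _, _, hRh⟩ := S0537.result Ap
  obtain ⟨Sh, _, _, _, _, hSh⟩ := S0537.result Bq
  haveI : HenselianLocalRing Sh := hSh.henselian
  haveI : IsSepClosed (ResidueField Sh) := hSh.isSepClosure.sep_closed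
  haveI : Algebra.IsSeparable (ResidueField Ap) (ResidueField Rh) := hRh.isSepClosure.separable
  let ψ : Ap →+* Sh := (algebraMap Bq Sh).comp φ
  haveI : IsLocalHom ψ := RingHom.isLocalHom_comp (algebraMap Bq Sh) φ
  letI : Algebra (ResidueField Ap) (ResidueField Sh) := (ResidueField.map ψ).toAlgebra
  let τ : ResidueField Rh →ₐ[ResidueField Ap] ResidueField Sh := IsSepClosed.lift
  obtain ⟨g, ⟨hg, hgτ⟩, -⟩ := hRh.universal Sh ψ τ.toRingHom (RingHom.ext fun x => τ.commutes x)
  haveI : IsLocalHom g := ⟨fun z hz => by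
    rw [← notMem_maximalIdeal, ← residue_eq_zero_iff] at hz ⊢
    intro h0
    exact hz ((hgτ z).trans (by rw [h0, map_zero]))⟩
  letI : Algebra A Rh := ((algebraMap Ap Rh).comp (algebraMap A Ap)).toAlgebra
  haveI : IsScalarTower A Ap Rh := IsScalarTower.of_algebraMap_eq fun _ => rfl
  letI : Algebra B Sh := ((algebraMap Bq Sh).comp (algebraMap B Bq)).toAlgebra
  haveI : IsScalarTower B Bq Sh := IsScalarTower.of_algebraMap_eq fun _ => rfl
  letI : Algebra A Sh := ((algebraMap B Sh).comp (algebraMap A B)).toAlgebra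
  haveI : IsScalarTower A B Sh := IsScalarTower.of_algebraMap_eq fun _ => rfl
  letI : Algebra Rh Sh := g.toAlgebra
  haveI : IsLocalHom (algebraMap Rh Sh) := ‹IsLocalHom g›
  haveI : IsScalarTower A Rh Sh := IsScalarTower.of_algebraMap_eq fun a => by
    show algebraMap Bq Sh (algebraMap B Bq (algebraMap A B a)) = g (algebraMap Ap Rh (algebraMap A Ap a))
    rw [← RingHom.comp_apply g, hg]
    show _ = algebraMap Bq Sh (φ (algebraMap A Ap a))
    rw [hφ, Localization.localRingHom_to_map]
  obtain ⟨hfin, -, -⟩ := S9461.result A B p q Rh Sh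
  haveI := hfin
  haveI : Module.FaithfullyFlat Bq Sh := S0539.result Bq Sh
  obtain ⟨hRd, -⟩ := (S2748.result Ap Rh).2 ⟨inferInstance, inferInstance⟩
  haveI := hRd
  have hψ : Function.Injective ψ := fun a b h => hinj (FaithfulSMul.algebraMap_injective Bq Sh h)
  have hgi : Function.Injective g := by
    -- a prime of `Rh` above zero containing the kernel
    rw [RingHom.injective_iff_ker_eq_bot]
    have hsub : ∀ a, algebraMap Ap Rh a ∈ RingHom.ker g → a = 0 := fun a ha => hψ (by
      rw [← hg, map_zero]; exact ha)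
    obtain ⟨K, hKp, hKle, hKd⟩ := Ideal.exists_le_prime_disjoint (RingHom.ker g)
      ((nonZeroDivisors Ap).map (algebraMap Ap Rh).toMonoidHom) (Set.disjoint_left.2 fun z hz hz' => by
        obtain ⟨a, ha, rfl⟩ := hz'
        exact nonZeroDivisors.ne_zero ha (hsub a hz))
    haveI := hKp
    have hK : K = ⊥ := eq_bot_of_comap_eq_bot Ap Rh K (by
      rw [eq_bot_iff]
      intro a ha
      by_contra hne
      exact Set.disjoint_left.1 hKd ha ⟨a, mem_nonZeroDivisors_of_ne_zero hne, rfl⟩)
    exact le_bot_iff.1 (hK ▸ hKle)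
  haveI : FaithfulSMul Rh Sh := (faithfulSMul_iff_algebraMap_injective Rh Sh).2 hgi
  rw [← BrnchLib.card_minimalPrimes_over_ker_strict πA hπA Rh, ← BrnchLib.card_minimalPrimes_over_ker_strict πB hπB Sh]
  refine (encard_minimalPrimes_le (T := Sh) ((RingHom.ker πA).map (algebraMap Ap Rh))).trans (le_of_eq ?_)
  rw [← hker, Ideal.map_map, Ideal.map_map, show (algebraMap Rh Sh).comp (algebraMap Ap Rh) = (algebraMap Bq Sh).comp φ from hg]

end Groth.Agent.BranchCount
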